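import Groth.Agent.Hopf.Integral
import Groth.Agent.Hopf.Reductive
import Groth.Agent.Hopf.Comod
import Groth.Agent.Hopf.Regular
import Mathlib.RingTheory.Flat.FaithfullyFlat.Basic
import Mathlib.RingTheory.Flat.EquationalCriterion

/-!
# Affine quotients by linearly reductive subgroups

`R` is a comodule algebra over the Hopf algebra `A` and `B` maps to the invariants of `R`. The Galois map
`R ⊗_B R → R ⊗ A` is `a ⊗ b ↦ (a ⊗ 1) ρ b`.

* `faithfullyFlat`, `can_bijective`: if `A` has an integral, the Galois map has dense image and `B` is the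
  invariants, then `R` is faithfully flat over `B` and the Galois map is bijective (Schneider).
* `fixedCrit_of_galois`: descent in the other direction.
-/

set_option autoImplicit false
set_option linter.unusedSectionVars false

universe u

open TensorProduct

noncomputable section

namespace Groth.Misc1.LRQuot

open Groth.ComodLib

variable {k : Type u} [Field k] {A : Type u} [CommRing A] [HopfAlgebra k A]

local notation "ρ" => HopfRep.Comod.coact (k := k) (A := A)

section Regular

variable {X : Type*} [AddCommGroup X] [Module k X] {V : Type u} [AddCommGroup V] [Module k V] [HopfRep.Comod k A V]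

theorem rTensor_mulLeft_add (a b : A) (z : A ⊗[k] V) :
    LinearMap.rTensor V (LinearMap.mulLeft k (a + b)) z =
      LinearMap.rTensor V (LinearMap.mulLeft k a) z + LinearMap.rTensor V (LinearMap.mulLeft k b) z := by
  induction z using TensorProduct.induction_on with
  | zero => simp
  | tmul x y => simp [add_mul, TensorProduct.add_tmul]
  | add x y hx hy => simp only [map_add, hx, hy]; abel

/-- multiplication on the second factors -/
def twist : (X ⊗[k] A) ⊗[k] (V ⊗[k] A) →ₗ[k] X ⊗[k] (V ⊗[k] A) :=
  ((LinearMap.mul' k A).lTensor V).lTensor X ∘ₗ (TensorProduct.leftComm k A V A).toLinearMap.lTensor X ∘ₗ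
    (TensorProduct.assoc k X A (V ⊗[k] A)).toLinearMap

theorem twist_tmul (r : X) (p : A) (v : V) (q : A) :
    twist (k := k) ((r ⊗ₜ p) ⊗ₜ (v ⊗ₜ q)) = r ⊗ₜ (v ⊗ₜ (p * q)) := by simp [twist]

variable (A V) in
/-- the invariant element over a vector, in the regular case -/
def coinv : V →ₗ[k] A ⊗[k] V :=
  
  (TensorProduct.comm k V A).toLinearMap ∘ₗ (HopfAlgebraStruct.antipode (R := k) (A := A)).lTensor V ∘ₗ
    HopfRep.Comod.coact (k := k) (A := A)

/-- the defect for the regular comodule algebra -/
def defectReg : A ⊗[k] V →ₗ[k] A ⊗[k] (V ⊗[k] A) :=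
  twist ∘ₗ TensorProduct.map (Coalgebra.comul (R := k)) ρ - ((TensorProduct.mk k V A).flip 1).lTensor A

theorem defectReg_coinv (v : V) : defectReg (k := k) (A := A) (V := V) (coinv (k := k) A V v) = 0 := by
  let S := HopfAlgebraStruct.antipode (R := k) (A := A)
  let G : (V ⊗[k] A) ⊗[k] A →ₗ[k] A ⊗[k] (V ⊗[k] A) :=
    twist ∘ₗ (TensorProduct.comm k _ _).toLinearMap ∘ₗ (Coalgebra.comul (R := k) ∘ₗ S).lTensor (V ⊗[k] A)
  rw [defectReg, LinearMap.sub_apply, sub_eq_zero, coinv]
  simp only [LinearMap.comp_apply, LinearEquiv.coe_coe]
  have h1 : ∀ z : V ⊗[k] A, twist (TensorProduct.map (Coalgebra.comul (R := k)) ρ (TensorProduct.comm k V A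
      (S.lTensor V z))) = G (LinearMap.rTensor A ρ z) := fun z => by
    induction z using TensorProduct.induction_on with
    | zero => simp
    | tmul p q => simp [G]
    | add u w hu hw => simp only [map_add, hu, hw]
  have hco := LinearMap.congr_fun (HopfRep.Comod.coassoc (k := k) (A := A) (V := V)) v
  simp only [LinearMap.comp_apply, LinearEquiv.coe_coe] at hco
  rw [h1, ← (TensorProduct.assoc k V A A).symm_apply_apply (LinearMap.rTensor A ρ _), hco]
  generalize ρ v = z
  induction z using TensorProduct.induction_on with
  | zero => simp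
  | add u w hu hw => simp only [map_add, hu, hw]
  | tmul x a =>
    let j : A ⊗[k] A →ₗ[k] A ⊗[k] (V ⊗[k] A) := (TensorProduct.mk k V A x).lTensor A
    have h2 : ∀ W : A ⊗[k] A, G ((TensorProduct.assoc k V A A).symm (x ⊗ₜ[k] W)) =
        j (Algebra.TensorProduct.lift (Algebra.TensorProduct.includeRight : A →ₐ[k] A ⊗[k] A)
          ((Bialgebra.comulAlgHom k A).comp (HopfAlgebra.antipodeAlgHom k A)) (fun _ _ => .all ..) W) := by
      intro W
      induction W using TensorProduct.induction_on with
      | zero => simp
      | add p q hp hq => simp only [TensorProduct.tmul_add, map_add, hp, hq]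
      | tmul p q =>
        simp only [G, TensorProduct.assoc_symm_tmul, LinearMap.comp_apply, LinearMap.lTensor_tmul,
          LinearEquiv.coe_coe, TensorProduct.comm_tmul, Algebra.TensorProduct.lift_tmul,
          Algebra.TensorProduct.includeRight_apply, AlgHom.comp_apply, Bialgebra.comulAlgHom_apply,
          HopfAlgebra.antipodeAlgHom_apply]
        change twist (Coalgebra.comul (R := k) (S q) ⊗ₜ[k] (x ⊗ₜ[k] p)) =
          j ((1 ⊗ₜ[k] p) * Coalgebra.comul (R := k) (S q))
        generalize Coalgebra.comul (R := k) (S q) = d
        induction d using TensorProduct.induction_on with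
        | zero => simp
        | add u w hu hw => simp only [TensorProduct.add_tmul, mul_add, map_add, hu, hw]
        | tmul u w => simp [j, twist_tmul, Algebra.TensorProduct.tmul_mul_tmul, mul_comm p w]
    rw [LinearMap.lTensor_tmul, h2, inr_mul_comul_antipode]
    simp [j, S]

/-- an invariant element of the regular case is determined by its counit -/
theorem exists_retraction : ∃ P : A ⊗[k] (V ⊗[k] A) →ₗ[k] A ⊗[k] V, ∀ z : A ⊗[k] V,
    P (defectReg z) =
      z - coinv A V (TensorProduct.lid k V ((Coalgebra.counit (R := k) (A := A)).rTensor V z)) := by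
  let S := HopfAlgebraStruct.antipode (R := k) (A := A)
  let Q : V ⊗[k] A →ₗ[k] A ⊗[k] V := TensorProduct.lift (LinearMap.mk₂ k
    (fun v q => LinearMap.rTensor V (LinearMap.mulLeft k q) (coinv A V v))
    (fun v v' q => by simp only [map_add]) (fun c v q => by simp only [map_smul])
    (fun v q q' => by
      rw [show LinearMap.mulLeft k (q + q') = LinearMap.mulLeft k q + LinearMap.mulLeft k q' from
        LinearMap.ext fun x => by simp [add_mul], LinearMap.rTensor_add, LinearMap.add_apply])
    (fun c v q => by
      rw [show LinearMap.mulLeft k (c • q) = c • LinearMap.mulLeft k q from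
        LinearMap.ext fun x => by simp, LinearMap.rTensor_smul, LinearMap.smul_apply]))
  refine ⟨(TensorProduct.lid k _).toLinearMap ∘ₗ TensorProduct.map (Coalgebra.counit (R := k)) Q, fun z => ?_⟩
  induction z using TensorProduct.induction_on with
  | zero => simp
  | add u w hu hw =>
    simp only [map_add] at hu hw ⊢
    rw [hu, hw]
    abel
  | tmul h v =>
    simp only [defectReg, LinearMap.sub_apply, map_sub, LinearMap.comp_apply, TensorProduct.map_tmul,
      LinearMap.rTensor_tmul, TensorProduct.lid_tmul, LinearMap.lTensor_tmul, LinearMap.flip_apply,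
      TensorProduct.mk_apply, LinearEquiv.coe_coe, map_smul]
    congr 1
    · let G : (V ⊗[k] A) ⊗[k] A →ₗ[k] A ⊗[k] V :=
        TensorProduct.lift (LinearMap.mk₂ k (fun z q =>
          LinearMap.rTensor V (LinearMap.mulLeft k (h * q)) (TensorProduct.comm k V A (S.lTensor V z)))
          (fun z z' q => by simp only [map_add]) (fun c z q => by simp only [map_smul])
          (fun z q q' => by
            rw [show LinearMap.mulLeft k (h * (q + q')) = LinearMap.mulLeft k (h * q) + LinearMap.mulLeft k (h * q') from
              LinearMap.ext fun x => by simp [mul_add, add_mul, mul_assoc], LinearMap.rTensor_add, LinearMap.add_apply])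
          (fun c z q => by
            rw [show LinearMap.mulLeft k (h * c • q) = c • LinearMap.mulLeft k (h * q) from
              LinearMap.ext fun x => by simp [mul_assoc], LinearMap.rTensor_smul, LinearMap.smul_apply]))
      have h1 : TensorProduct.lid k _ (TensorProduct.map (Coalgebra.counit (R := k)) Q
          (twist (Coalgebra.comul (R := k) h ⊗ₜ[k] ρ v))) = G (LinearMap.rTensor A ρ (ρ v)) := by
        generalize ρ v = w
        induction w using TensorProduct.induction_on with
        | zero => simp
        | add u w hu hw => simp only [TensorProduct.tmul_add, map_add, hu, hw]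
        | tmul x q =>
          simp only [G, LinearMap.rTensor_tmul, TensorProduct.lift.tmul, LinearMap.mk₂_apply]
          conv_rhs => rw [show h = TensorProduct.lid k A ((Coalgebra.counit (R := k) (A := A)).rTensor A
            (Coalgebra.comul (R := k) h)) by rw [Coalgebra.rTensor_counit_comul, TensorProduct.lid_tmul, one_smul]]
          generalize Coalgebra.comul (R := k) h = d
          induction d using TensorProduct.induction_on with
          | zero => simp
          | add u w hu hw =>
            simp only [TensorProduct.add_tmul, map_add, hu, hw, add_mul]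
            exact (rTensor_mulLeft_add _ _ _).symm
          | tmul u w =>
            simp only [twist_tmul, TensorProduct.map_tmul, TensorProduct.lid_tmul, Q, TensorProduct.lift.tmul,
              LinearMap.mk₂_apply, LinearMap.rTensor_tmul, smul_mul_assoc]
            rw [show LinearMap.mulLeft k (Coalgebra.counit (R := k) u • (w * q)) =
              Coalgebra.counit (R := k) u • LinearMap.mulLeft k (w * q) from LinearMap.ext fun x => by simp [mul_assoc],
              LinearMap.rTensor_smul, LinearMap.smul_apply]
            rfl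
      have hco := LinearMap.congr_fun (HopfRep.Comod.coassoc (k := k) (A := A) (V := V)) v
      simp only [LinearMap.comp_apply, LinearEquiv.coe_coe] at hco
      rw [h1, ← (TensorProduct.assoc k V A A).symm_apply_apply (LinearMap.rTensor A ρ (ρ v)), hco]
      conv_rhs => rw [show v = slice (Coalgebra.counit (R := k) (A := A)) (ρ v) by rw [← op_apply, op_counit]]
      generalize ρ v = w
      induction w using TensorProduct.induction_on with
      | zero => simp
      | add u w hu hw => simp only [map_add, TensorProduct.tmul_add, hu, hw]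
      | tmul x a =>
        have h2 : ∀ W : A ⊗[k] A, G ((TensorProduct.assoc k V A A).symm (x ⊗ₜ[k] W)) =
            (h * LinearMap.mul' k A (S.rTensor A W)) ⊗ₜ[k] x := fun W => by
          induction W using TensorProduct.induction_on with
          | zero => simp
          | add u w hu hw => simp only [TensorProduct.tmul_add, map_add, mul_add, TensorProduct.add_tmul, hu, hw]
          | tmul u w => simp [G, mul_assoc, mul_comm w]
        rw [LinearMap.lTensor_tmul, h2, HopfAlgebra.mul_antipode_rTensor_comul_apply, slice_tmul,
          Algebra.algebraMap_eq_smul_one, mul_smul_comm, mul_one, TensorProduct.smul_tmul]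
    · simp [Q]

end Regular

variable {R : Type u} [CommRing R] [Algebra k R] [HopfRep.Comod k A R] [GLin.IsCoactAlg k A R]

section Integral

variable (t : A →ₗ[k] k)

/-- averaging by a linear form -/
def av : R →ₗ[k] R := op (t ∘ₗ HopfAlgebraStruct.antipode (R := k) (A := A))

theorem av_eq_reynolds (r : R) : av t r = TameAct.reynolds k A R R (Algebra.linearMap k R ∘ₗ t) r := by
  rw [reynolds_eq, av, op_apply]
  generalize ρ r = z
  induction z using TensorProduct.induction_on with
  | zero => simp
  | tmul p a => simp [Algebra.smul_def]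
  | add x y hx hy => simp only [map_add, hx, hy]

theorem av_fixed (ht : @Hoch.IsComodHom k _ A _ _ _ A _ _ _ k _ _ (HopfRep.Comod.trivial k A k) t) (r : R) :
    av t r ∈ HopfRep.fixedPts k A R := by
  have := isHopfMod_self (k := k) (A := A) (B := R)
  rw [av_eq_reynolds]
  exact reynolds_mem_fixedPts (isComodHom_algebraMap_comp t ht) r

theorem av_of_fixed (ht1 : t 1 = 1) {r : R} (hr : r ∈ HopfRep.fixedPts k A R) : av t r = r := by
  rw [av, op_apply, show ρ r = r ⊗ₜ[k] (1 : A) from hr, slice_tmul, LinearMap.comp_apply,
    HopfAlgebra.antipode_one, ht1, one_smul]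

/-- a stable family of relations is spanned by invariant ones -/
theorem mem_span_fixed {n : Type*} [Fintype n] (ht : @Hoch.IsComodHom k _ A _ _ _ A _ _ _ k _ _ (HopfRep.Comod.trivial k A k) t)
    (ht1 : t 1 = 1)
    (hsurj : ∀ h : A, ∃ (s : Finset (R × R)), ∑ p ∈ s, (p.1 ⊗ₜ[k] (1 : A)) * ρ p.2 = (1 : R) ⊗ₜ[k] h)
    (K : Submodule R (n → R)) (hK : ∀ c ∈ K, ∀ φ : A →ₗ[k] k, (fun i => op φ (c i)) ∈ K)
    {c : n → R} (hc : c ∈ K) :
    c ∈ Submodule.span R {d : n → R | d ∈ K ∧ ∀ i, d i ∈ HopfRep.fixedPts k A R} := by
  classical
  let e := Module.Free.chooseBasis k A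
  let x : Module.Free.ChooseBasisIndex k A → n → R := fun j i => op (e.coord j) (c i)
  let avn : (n → R) → n → R := fun d i => av t (d i)
  let F : (R ⊗[k] A) ⊗[k] A →ₗ[k] R := TensorProduct.lift (LinearMap.mk₂ k
    (fun z q => slice (t ∘ₗ HopfAlgebraStruct.antipode (R := k) (A := A))
      (((1 : R) ⊗ₜ[k] HopfAlgebraStruct.antipode (R := k) q) * z))
    (fun z z' q => by rw [mul_add, map_add]) (fun a z q => by rw [mul_smul_comm, map_smul])
    (fun z q q' => by rw [map_add, TensorProduct.tmul_add, add_mul, map_add])
    (fun a z q => by rw [map_smul, TensorProduct.tmul_smul, smul_mul_assoc, map_smul]))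
  have hF : ∀ r : R, F (LinearMap.rTensor A ρ (ρ r)) = r := fun r => by
    have hco := LinearMap.congr_fun (HopfRep.Comod.coassoc (k := k) (A := A) (V := R)) r
    simp only [LinearMap.comp_apply, LinearEquiv.coe_coe] at hco
    rw [← (TensorProduct.assoc k R A A).symm_apply_apply (LinearMap.rTensor A ρ (ρ r)), hco]
    conv_rhs => rw [show r = op (Coalgebra.counit (R := k) (A := A)) r from (op_counit r).symm, op_apply]
    generalize ρ r = z
    induction z using TensorProduct.induction_on with
    | zero => simp
    | add p q hp hq => simp only [map_add, hp, hq]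
    | tmul p a =>
      have hT : ∀ W : A ⊗[k] A, F ((TensorProduct.assoc k R A A).symm (p ⊗ₜ[k] W)) =
          t (HopfAlgebraStruct.antipode (R := k) (LinearMap.mul' k A
            ((HopfAlgebraStruct.antipode (R := k) (A := A)).lTensor A W))) • p := fun W => by
        induction W using TensorProduct.induction_on with
        | zero => simp
        | add u v hu hv => simp only [TensorProduct.tmul_add, map_add, add_smul, hu, hv]
        | tmul u v => simp [F, Algebra.TensorProduct.tmul_mul_tmul, mul_comm u]
      rw [LinearMap.lTensor_tmul, hT, HopfAlgebra.mul_antipode_lTensor_comul_apply,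
        Algebra.algebraMap_eq_smul_one, map_smul, map_smul, HopfAlgebra.antipode_one, ht1, slice_tmul,
        smul_eq_mul, mul_one]
  choose s hs using hsurj
  let z : n → Module.Free.ChooseBasisIndex k A →₀ R := fun i => TensorProduct.equivFinsuppOfBasisRight e (ρ (c i))
  have hz : ∀ i, ρ (c i) = (z i).sum fun j r => r ⊗ₜ[k] e j := fun i =>
    (LinearEquiv.symm_apply_apply (TensorProduct.equivFinsuppOfBasisRight e) (ρ (c i))).symm.trans
      (TensorProduct.equivFinsuppOfBasisRight_symm_apply e _)
  have hx : ∀ i j, x j i = z i j := fun i j => by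
    simp only [x, op_apply, hz, Finsupp.sum, map_sum, slice_tmul, Module.Basis.coord_apply,
      Module.Basis.repr_self, Finsupp.single_apply, ite_smul, one_smul, zero_smul, Finset.sum_ite_eq',
      Finsupp.mem_support_iff]
    split_ifs with h
    · rfl
    · exact (not_not.1 h).symm
  have key : ∀ i, c i = ∑ j ∈ Finset.univ.biUnion (fun i => (z i).support),
      ∑ p ∈ s (HopfAlgebraStruct.antipode (R := k) (e j)), p.1 * av t (p.2 * x j i) := by
    intro i
    rw [← Finset.sum_subset (Finset.subset_biUnion_of_mem (fun i => (z i).support) (Finset.mem_univ i))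
      fun j _ hj => by simp [hx, Finsupp.notMem_support_iff.1 hj]]
    conv_lhs => rw [← hF (c i), hz, Finsupp.sum, map_sum, map_sum]
    refine Finset.sum_congr rfl fun j _ => ?_
    rw [LinearMap.rTensor_tmul, hx]
    simp only [F, TensorProduct.lift.tmul, LinearMap.mk₂_apply]
    rw [← hs, Finset.sum_mul, map_sum]
    refine Finset.sum_congr rfl fun p _ => ?_
    rw [av, op_apply, mul_assoc, ← GLin.IsCoactAlg.coact_mul]
    generalize ρ (p.2 * z i j) = w
    induction w using TensorProduct.induction_on with
    | zero => simp
    | tmul u v => simp [Algebra.TensorProduct.tmul_mul_tmul]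
    | add u v hu hv => simp only [mul_add, map_add, hu, hv]
  let g : Module.Free.ChooseBasisIndex k A → n → R := fun j =>
    ∑ p ∈ s (HopfAlgebraStruct.antipode (R := k) (e j)), p.1 • avn (p.2 • x j)
  have hg : ∀ j, g j ∈ Submodule.span R {d : n → R | d ∈ K ∧ ∀ i, d i ∈ HopfRep.fixedPts k A R} := fun j =>
    Submodule.sum_mem _ fun p _ => Submodule.smul_mem _ _ (Submodule.subset_span
      ⟨hK _ (K.smul_mem p.2 (hK c hc (e.coord j))) _, fun i => av_fixed t ht _⟩)
  have e' : c = ∑ j ∈ Finset.univ.biUnion (fun i => (z i).support), g j := funext fun i => by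
    rw [key i, Finset.sum_apply]
    exact Finset.sum_congr rfl fun j _ => by simp [g, avn]
  rw [e']
  exact Submodule.sum_mem _ fun j _ => hg j

end Integral

section Base

variable {B : Type u} [CommRing B] [Algebra k B] [Algebra B R] [IsScalarTower k B R]
  (hB : ∀ b : B, HopfRep.Comod.coact (k := k) (A := A) (algebraMap B R b) = algebraMap B R b ⊗ₜ[k] (1 : A))

/-- the coaction over the base -/
def coactB : R →ₐ[B] R ⊗[k] A :=
  { (GLin.coactAlgHom k A R).toRingHom with
    commutes' := fun b => hB b }

theorem coactB_apply (r : R) : coactB hB r = ρ r := rfl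

/-- the Galois map -/
def can : R ⊗[B] R →ₐ[B] R ⊗[k] A :=
  Algebra.TensorProduct.lift (Algebra.TensorProduct.includeLeft : R →ₐ[B] R ⊗[k] A) (coactB hB)
    fun _ _ => Commute.all _ _

theorem can_tmul (x y : R) : can hB (x ⊗ₜ[B] y) = (x ⊗ₜ[k] (1 : A)) * ρ y := rfl

theorem exists_pairs_of_surjective (h : Function.Surjective (can hB)) (a : A) :
    ∃ s : Finset (R × R), ∑ p ∈ s, (p.1 ⊗ₜ[k] (1 : A)) * ρ p.2 = (1 : R) ⊗ₜ[k] a := by
  obtain ⟨z, hz⟩ := h ((1 : R) ⊗ₜ a)
  obtain ⟨S, rfl⟩ := TensorProduct.exists_finset z
  rw [map_sum] at hz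
  exact ⟨S, hz⟩

include hB in
theorem op_smul_base (φ : A →ₗ[k] k) (b : B) (r : R) : op φ (b • r) = b • op φ r := by
  rw [Algebra.smul_def, Algebra.smul_def, op_apply, op_apply, GLin.IsCoactAlg.coact_mul, hB]
  generalize ρ r = z
  induction z using TensorProduct.induction_on with
  | zero => simp
  | tmul u v => simp [Algebra.TensorProduct.tmul_mul_tmul]
  | add u v hu hv => simp only [mul_add, map_add, hu, hv]

theorem left_smul_eq (r : R) (w : R ⊗[k] A) : r • w = (r ⊗ₜ[k] (1 : A)) * w := by
  induction w using TensorProduct.induction_on with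
  | zero => simp
  | tmul u v => simp [TensorProduct.smul_tmul', Algebra.TensorProduct.tmul_mul_tmul]
  | add u v hu hv => simp only [mul_add, smul_add, hu, hv]

/-- translating a relation -/
theorem exists_shift (φ : A →ₗ[k] k) :
    ∃ Ψ : R ⊗[k] A →ₗ[k] R ⊗[k] A, ∀ c y : R, Ψ (c • ρ y) = op φ c • ρ y := by
  let S := HopfAlgebraStruct.antipode (R := k) (A := A)
  let Γ : (R ⊗[k] A) ⊗[k] (A ⊗[k] A) →ₗ[k] R ⊗[k] A :=
    TensorProduct.map ((TensorProduct.rid k R).toLinearMap ∘ₗ φ.lTensor R ∘ₗ (LinearMap.mul' k A).lTensor R ∘ₗ
      (TensorProduct.assoc k R A A).toLinearMap) LinearMap.id ∘ₗ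
      (TensorProduct.assoc k (R ⊗[k] A) A A).symm.toLinearMap ∘ₗ (S.rTensor A).lTensor (R ⊗[k] A)
  have hΓ : ∀ u v h h', Γ ((u ⊗ₜ v) ⊗ₜ (h ⊗ₜ h')) = (φ (v * S h) • u) ⊗ₜ h' := fun u v h h' => by
    simp [Γ]
  refine ⟨Γ ∘ₗ TensorProduct.map ρ (Coalgebra.comul (R := k)), fun c y => ?_⟩
  rw [op_apply]
  let H : R ⊗[k] A → (R ⊗[k] A) ⊗[k] A →ₗ[k] R ⊗[k] A := fun z =>
    Γ ∘ₗ TensorProduct.map (LinearMap.mulLeft k z) (Coalgebra.comul (R := k))
  have h1 : Γ (TensorProduct.map ρ (Coalgebra.comul (R := k)) (c • ρ y)) = H (ρ c) (LinearMap.rTensor A ρ (ρ y)) := by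
    rw [left_smul_eq]
    generalize ρ y = w
    induction w using TensorProduct.induction_on with
    | zero => simp
    | tmul u v => simp [H, Algebra.TensorProduct.tmul_mul_tmul, GLin.IsCoactAlg.coact_mul]
    | add u v hu hv => simp only [mul_add, map_add, hu, hv]
  have hco := LinearMap.congr_fun (HopfRep.Comod.coassoc (k := k) (A := A) (V := R)) y
  simp only [LinearMap.comp_apply, LinearEquiv.coe_coe] at hco
  rw [LinearMap.comp_apply, h1, ← (TensorProduct.assoc k R A A).symm_apply_apply (LinearMap.rTensor A ρ (ρ y)), hco]
  generalize ρ c = z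
  generalize ρ y = w
  induction z using TensorProduct.induction_on with
  | zero => simp [H]
  | add u v hu hv =>
    simp only [H] at hu hv ⊢
    rw [map_add (slice φ), add_smul, ← hu, ← hv,
      show LinearMap.mulLeft k (u + v) = LinearMap.mulLeft k u + LinearMap.mulLeft k v from
        LinearMap.ext fun x => by simp [add_mul],
      TensorProduct.map_add_left, LinearMap.comp_add, LinearMap.add_apply]
  | tmul p q =>
    induction w using TensorProduct.induction_on with
    | zero => simp
    | add u v hu hv => simp only [map_add, smul_add, hu, hv]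
    | tmul u a =>
      let K : A ⊗[k] (A ⊗[k] A) →ₗ[k] R ⊗[k] A :=
        TensorProduct.lift (LinearMap.mk₂ k (fun v hh => Γ (((p * u) ⊗ₜ[k] (q * v)) ⊗ₜ[k] hh))
          (fun v v' hh => by simp only [mul_add, TensorProduct.tmul_add, TensorProduct.add_tmul, map_add])
          (fun c v hh => by simp only [mul_smul_comm, TensorProduct.tmul_smul, ← TensorProduct.smul_tmul', map_smul])
          (fun v hh hh' => by simp only [TensorProduct.tmul_add, map_add])
          (fun c v hh => by simp only [TensorProduct.tmul_smul, map_smul]))
      have h2 : H (p ⊗ₜ q) ((TensorProduct.assoc k R A A).symm (LinearMap.lTensor R (Coalgebra.comul (R := k)) (u ⊗ₜ a))) =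
          K (LinearMap.lTensor A (Coalgebra.comul (R := k)) (Coalgebra.comul (R := k) a)) := by
        rw [LinearMap.lTensor_tmul]
        generalize Coalgebra.comul (R := k) a = d
        induction d using TensorProduct.induction_on with
        | zero => simp
        | tmul v h => simp [H, K, Algebra.TensorProduct.tmul_mul_tmul]
        | add v h hv hh => simp only [TensorProduct.tmul_add, map_add, hv, hh]
      rw [h2, ← Coalgebra.coassoc_apply]
      conv_rhs => rw [show a = TensorProduct.lid k A ((Coalgebra.counit (R := k) (A := A)).rTensor A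
        (Coalgebra.comul (R := k) a)) by rw [Coalgebra.rTensor_counit_comul, TensorProduct.lid_tmul, one_smul]]
      generalize Coalgebra.comul (R := k) a = d
      induction d using TensorProduct.induction_on with
      | zero => simp
      | add v h hv hh => simp only [TensorProduct.tmul_add, map_add, smul_add, hv, hh]
      | tmul v h =>
        have hK : ∀ d : A ⊗[k] A, K (TensorProduct.assoc k A A A (d ⊗ₜ[k] h)) =
            (φ (q * LinearMap.mul' k A (S.lTensor A d)) • (p * u)) ⊗ₜ[k] h := fun d => by
          induction d using TensorProduct.induction_on with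
          | zero => simp
          | add v w hv hw => simp only [TensorProduct.add_tmul, map_add, mul_add, add_smul, hv, hw]
          | tmul v w => simp [K, hΓ, mul_assoc]
        rw [LinearMap.rTensor_tmul, hK, HopfAlgebra.mul_antipode_lTensor_comul_apply, slice_tmul,
          LinearMap.rTensor_tmul, TensorProduct.lid_tmul, Algebra.algebraMap_eq_smul_one, mul_smul_comm, mul_one,
          map_smul]
        simp only [TensorProduct.tmul_smul, TensorProduct.smul_tmul', smul_eq_mul, smul_mul_assoc, mul_smul_comm, smul_smul, mul_comm]

variable (hinj : Function.Injective (algebraMap B R))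
  (hinv : ∀ r ∈ HopfRep.fixedPts k A R, r ∈ (algebraMap B R).range)
  {t : A →ₗ[k] k} (ht : @Hoch.IsComodHom k _ A _ _ _ A _ _ _ k _ _ (HopfRep.Comod.trivial k A k) t) (ht1 : t 1 = 1)
  (hsurj : ∀ h : A, ∃ (s : Finset (R × R)), ∑ p ∈ s, (p.1 ⊗ₜ[k] (1 : A)) * HopfRep.Comod.coact (k := k) (A := A) p.2 = (1 : R) ⊗ₜ[k] h)

include hB hinj hinv ht ht1 hsurj in
/-- **the coordinate ring is faithfully flat over the invariants** -/
theorem faithfullyFlat : Module.FaithfullyFlat B R := by
  refine (Module.FaithfullyFlat.iff_flat_and_ideal_smul_eq_top B R).2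
    ⟨Module.Flat.of_forall_isTrivialRelation fun {l f x} hfx => ?_, fun I hI => ?_⟩
  · let L : (Fin l → R) →ₗ[R] R := Fintype.linearCombination R fun i => algebraMap B R (f i)
    have hL : ∀ c, L c = ∑ i, f i • c i := fun c => by
      simp [L, Fintype.linearCombination_apply, Algebra.smul_def, mul_comm]
    have hx : x ∈ LinearMap.ker L := by rw [LinearMap.mem_ker, hL, hfx]
    have hmem := mem_span_fixed t ht ht1 hsurj (LinearMap.ker L) (fun c hc φ => by
      rw [LinearMap.mem_ker, hL] at hc ⊢
      have := congrArg (op (V := R) φ) hc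
      rw [map_sum, map_zero] at this
      simpa only [op_smul_base hB] using this) hx
    obtain ⟨m, co, d, hd⟩ := Submodule.mem_span_set'.1 hmem
    choose a ha using fun (i : Fin l) (j : Fin m) => hinv _ ((d j).2.2 i)
    refine ⟨m, a, co, fun i => ?_, fun j => hinj ?_⟩
    · rw [← hd, Finset.sum_apply]
      exact Finset.sum_congr rfl fun j _ => by rw [Pi.smul_apply, smul_eq_mul, Algebra.smul_def, ha, mul_comm]
    · have hj := (d j).2.1
      rw [LinearMap.mem_ker, hL] at hj
      rw [map_sum, map_zero]
      refine Eq.trans (Finset.sum_congr rfl fun i _ => ?_) hj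
      rw [map_mul, ha, Algebra.smul_def]
  · have h1 : (1 : R) ∈ I • (⊤ : Submodule B R) := by rw [hI]; trivial
    obtain ⟨b, hb, e⟩ : ∃ b ∈ I, algebraMap B R b = av t (1 : R) := by
      refine Submodule.smul_induction_on h1 (fun b hb r _ => ?_) (fun u v ⟨b, hb, e⟩ ⟨b', hb', e'⟩ => ?_)
      · obtain ⟨b', hb'⟩ := hinv _ (av_fixed t ht r)
        refine ⟨b * b', I.mul_mem_right _ hb, ?_⟩
        rw [map_mul, hb', av, op_smul_base hB, Algebra.smul_def]
      · exact ⟨b + b', I.add_mem hb hb', by rw [map_add, e, e', map_add]⟩
    rw [av_of_fixed t ht1 (show (1 : R) ∈ HopfRep.fixedPts k A R from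
      GLin.IsCoactAlg.coact_one.trans Algebra.TensorProduct.one_def), ← map_one (algebraMap B R)] at e
    exact I.eq_top_iff_one.2 (hinj e ▸ hb)

include hinj hinv ht ht1 hsurj in
/-- **the Galois map is bijective** -/
theorem can_bijective : Function.Bijective (can hB) := by
  refine ⟨(injective_iff_map_eq_zero _).2 fun z hz => ?_, fun w => ?_⟩
  · obtain ⟨S, rfl⟩ := TensorProduct.exists_finset z
    let L : (S → R) →ₗ[R] R ⊗[k] A := Fintype.linearCombination R fun p => ρ (p : R × R).2
    have hL : ∀ c, L c = ∑ p, c p • ρ (p : R × R).2 := fun c => by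
      simp [L, Fintype.linearCombination_apply]
    rw [map_sum, ← Finset.sum_coe_sort] at hz
    rw [← Finset.sum_coe_sort]
    simp only [can_tmul, ← left_smul_eq] at hz
    have hmem := mem_span_fixed t ht ht1 hsurj (LinearMap.ker L) (fun c hc φ => by
      rw [LinearMap.mem_ker, hL] at hc ⊢
      obtain ⟨Ψ, hΨ⟩ := exists_shift (k := k) (A := A) (R := R) φ
      have := congrArg Ψ hc
      rw [map_sum, map_zero] at this
      simpa only [hΨ] using this) (c := fun p : S => (p : R × R).1) (by rw [LinearMap.mem_ker, hL]; exact hz)
    obtain ⟨m, co, d, hd⟩ := Submodule.mem_span_set'.1 hmem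
    choose a ha using fun (p : S) (j : Fin m) => hinv _ ((d j).2.2 p)
    have h0 : ∀ j, ∑ p : S, a p j • (p : R × R).2 = 0 := fun j => by
      have hj := (d j).2.1
      rw [LinearMap.mem_ker, hL] at hj
      have h2 : ρ (∑ p : S, a p j • (p : R × R).2) = 0 := by
        rw [map_sum]
        refine Eq.trans (Finset.sum_congr rfl fun p _ => ?_) hj
        rw [Algebra.smul_def, GLin.IsCoactAlg.coact_mul, hB, ← left_smul_eq, ha]
      have h3 := congrArg (slice (V := R) (Coalgebra.counit (R := k) (A := A))) h2
      rwa [← op_apply, op_counit, map_zero] at h3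
    calc ∑ p : S, (p : R × R).1 ⊗ₜ[B] (p : R × R).2
        = ∑ p : S, ∑ j, (a p j • co j) ⊗ₜ[B] (p : R × R).2 := Finset.sum_congr rfl fun p _ => by
          rw [← TensorProduct.sum_tmul]
          congr 1
          conv_lhs => rw [← congrFun hd p, Finset.sum_apply]
          exact Finset.sum_congr rfl fun j _ => by rw [Pi.smul_apply, smul_eq_mul, Algebra.smul_def, ha, mul_comm]
      _ = ∑ j, co j ⊗ₜ[B] ∑ p : S, a p j • (p : R × R).2 := by
          rw [Finset.sum_comm]
          exact Finset.sum_congr rfl fun j _ => by
            rw [TensorProduct.tmul_sum]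
            exact Finset.sum_congr rfl fun p _ => TensorProduct.smul_tmul _ _ _
      _ = 0 := Finset.sum_eq_zero fun j _ => by rw [h0, TensorProduct.tmul_zero]
  · induction w using TensorProduct.induction_on with
    | zero => exact ⟨0, map_zero _⟩
    | add u v hu hv =>
      obtain ⟨u', rfl⟩ := hu
      obtain ⟨v', rfl⟩ := hv
      exact ⟨u' + v', map_add _ _ _⟩
    | tmul r h =>
      obtain ⟨s, hs⟩ := hsurj h
      refine ⟨∑ p ∈ s, (r * p.1) ⊗ₜ[B] p.2, ?_⟩
      rw [map_sum, show r ⊗ₜ[k] h = (r ⊗ₜ[k] (1 : A)) * ((1 : R) ⊗ₜ[k] h) by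
        rw [Algebra.TensorProduct.tmul_mul_tmul, mul_one, one_mul], ← hs, Finset.mul_sum]
      exact Finset.sum_congr rfl fun p _ => by
        rw [can_tmul, ← mul_assoc, Algebra.TensorProduct.tmul_mul_tmul, mul_one]

end Base

section Descent

variable {B : Type u} [CommRing B] [Algebra k B] [Algebra B R] [IsScalarTower k B R]
  (hB : ∀ b : B, HopfRep.Comod.coact (k := k) (A := A) (algebraMap B R b) = algebraMap B R b ⊗ₜ[k] (1 : A))
  {V : Type u} [AddCommGroup V] [Module k V] [HopfRep.Comod k A V]

/-- the defect of invariance on `R ⊗ V` -/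
def defect : R ⊗[k] V →ₗ[k] R ⊗[k] (V ⊗[k] A) :=
  twist ∘ₗ TensorProduct.map ρ ρ - ((TensorProduct.mk k V A).flip 1).lTensor R

theorem defect_tmul (r : R) (v : V) :
    defect (A := A) (r ⊗ₜ[k] v) = twist (ρ r ⊗ₜ ρ v) - r ⊗ₜ (v ⊗ₜ (1 : A)) := rfl

include hB in
theorem defect_smul (b : B) (z : R ⊗[k] V) : defect (A := A) (b • z) = b • defect (A := A) z := by
  induction z using TensorProduct.induction_on with
  | zero => simp
  | add u v hu hv => simp only [smul_add, map_add, hu, hv]
  | tmul r v =>
    rw [TensorProduct.smul_tmul', defect_tmul, defect_tmul, smul_sub, TensorProduct.smul_tmul']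
    congr 1
    rw [Algebra.smul_def, GLin.IsCoactAlg.coact_mul, hB]
    generalize ρ r = z
    generalize ρ v = w
    induction z using TensorProduct.induction_on with
    | zero => simp
    | add x y hx hy => simp only [mul_add, TensorProduct.add_tmul, map_add, smul_add, hx, hy]
    | tmul x y =>
      induction w using TensorProduct.induction_on with
      | zero => simp
      | add x y hx hy => simp only [TensorProduct.tmul_add, map_add, smul_add, hx, hy]
      | tmul x' y' =>
        rw [Algebra.TensorProduct.tmul_mul_tmul, one_mul, twist_tmul, twist_tmul, TensorProduct.smul_tmul',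
          Algebra.smul_def]

/-- the defect over the base -/
def defectB : R ⊗[k] V →ₗ[B] R ⊗[k] (V ⊗[k] A) where
  toFun := defect (A := A)
  map_add' := map_add _
  map_smul' b z := defect_smul hB b z

/-- the invariants of `R ⊗ V` -/
def invB (V : Type u) [AddCommGroup V] [Module k V] [HopfRep.Comod k A V] : Submodule B (R ⊗[k] V) :=
  LinearMap.ker (defectB hB (V := V))

theorem mem_invB {z : R ⊗[k] V} : z ∈ invB hB V ↔ defect (A := A) z = 0 := LinearMap.mem_ker

/-- the Galois map with coefficients -/
def Θ (W : Type u) [AddCommGroup W] [Module k W] : R ⊗[B] (R ⊗[k] W) →ₗ[k] (R ⊗[k] A) ⊗[k] W :=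
  ((can hB).toLinearMap.restrictScalars k).rTensor W ∘ₗ
    ((TensorProduct.AlgebraTensorModule.assoc k B B R R W).symm.toLinearMap.restrictScalars k)

theorem Θ_tmul (W : Type u) [AddCommGroup W] [Module k W] (x b : R) (v : W) :
    Θ hB W (x ⊗ₜ[B] (b ⊗ₜ[k] v)) = ((x ⊗ₜ[k] (1 : A)) * ρ b) ⊗ₜ v := rfl

theorem Θ_bijective (hcan : Function.Bijective (can hB)) (W : Type u) [AddCommGroup W] [Module k W] :
    Function.Bijective (Θ hB W) := by
  let e := LinearEquiv.ofBijective ((can hB).toLinearMap.restrictScalars k) hcan
  exact (TensorProduct.congr e (LinearEquiv.refl k W)).bijective.comp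
    (TensorProduct.AlgebraTensorModule.assoc k B B R R W).symm.bijective

variable (hcan : Function.Bijective (can hB))

/-- evaluation of the second tensor factor -/
def evalTwo : (R ⊗[k] A) ⊗[k] V →ₗ[k] R ⊗[k] V := (slice (Coalgebra.counit (R := k) (A := A))).rTensor V

/-- invariant element over `R ⊗ V` -/
def coinvR : R ⊗[k] V →ₗ[k] (R ⊗[k] A) ⊗[k] V :=
  (TensorProduct.assoc k R A V).symm.toLinearMap ∘ₗ (coinv A V).lTensor R

theorem Θ_natural (z : R ⊗[B] (R ⊗[k] V)) :
    Θ hB (V ⊗[k] A) ((defectB hB).lTensor R z) =
      (TensorProduct.assoc k R A (V ⊗[k] A)).symm ((defectReg (k := k) (A := A) (V := V)).lTensor R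
        (TensorProduct.assoc k R A V (Θ hB V z))) := by
  induction z using TensorProduct.induction_on with
  | zero => simp
  | add u w hu hw => simp only [map_add, hu, hw]
  | tmul x t =>
    induction t using TensorProduct.induction_on with
    | zero => simp
    | add u w hu hw => simp only [TensorProduct.tmul_add, map_add, hu, hw]
    | tmul b v =>
      rw [LinearMap.lTensor_tmul, show defectB hB (b ⊗ₜ[k] v) = defect (A := A) (b ⊗ₜ[k] v) from rfl, Θ_tmul,
        defect_tmul, TensorProduct.tmul_sub, map_sub, Θ_tmul]
      let G : (R ⊗[k] A) ⊗[k] A →ₗ[k] (R ⊗[k] A) ⊗[k] (V ⊗[k] A) :=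
        TensorProduct.lift (LinearMap.mk₂ k
          (fun z q => ((x ⊗ₜ[k] (1 : A)) * z) ⊗ₜ[k] ((LinearMap.mulLeft k q).lTensor V (ρ v)))
          (fun z z' q => by rw [mul_add, TensorProduct.add_tmul])
          (fun c z q => by rw [mul_smul_comm, TensorProduct.smul_tmul'])
          (fun z q q' => by
            rw [show LinearMap.mulLeft k (q + q') = LinearMap.mulLeft k q + LinearMap.mulLeft k q' from
              LinearMap.ext fun x => by simp [add_mul], LinearMap.lTensor_add, LinearMap.add_apply,
              TensorProduct.tmul_add])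
          (fun c z q => by
            rw [show LinearMap.mulLeft k (c • q) = c • LinearMap.mulLeft k q from
              LinearMap.ext fun x => by simp, LinearMap.lTensor_smul, LinearMap.smul_apply, TensorProduct.tmul_smul]))
      have h1 : Θ hB (V ⊗[k] A) (x ⊗ₜ[B] twist (ρ b ⊗ₜ[k] ρ v)) = G (LinearMap.rTensor A ρ (ρ b)) := by
        generalize ρ b = w
        induction w using TensorProduct.induction_on with
        | zero => simp
        | add u w hu hw => simp only [TensorProduct.add_tmul, TensorProduct.tmul_add, map_add, hu, hw]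
        | tmul u q =>
          simp only [G, LinearMap.rTensor_tmul, TensorProduct.lift.tmul, LinearMap.mk₂_apply]
          generalize ρ v = w
          induction w using TensorProduct.induction_on with
          | zero => simp
          | add u w hu hw => simp only [TensorProduct.tmul_add, map_add, hu, hw]
          | tmul u' q' => simp [twist_tmul, Θ_tmul]
      have hco := LinearMap.congr_fun (HopfRep.Comod.coassoc (k := k) (A := A) (V := R)) b
      simp only [LinearMap.comp_apply, LinearEquiv.coe_coe] at hco
      rw [h1, ← (TensorProduct.assoc k R A A).symm_apply_apply (LinearMap.rTensor A ρ (ρ b)), hco]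
      generalize ρ b = w
      induction w using TensorProduct.induction_on with
      | zero => simp
      | add u w hu hw =>
        simp only [mul_add, TensorProduct.add_tmul, map_add] at hu hw ⊢
        rw [← hu, ← hw]
        abel
      | tmul u a =>
        rw [Algebra.TensorProduct.tmul_mul_tmul, one_mul, TensorProduct.assoc_tmul, LinearMap.lTensor_tmul,
          LinearMap.lTensor_tmul, defectReg, LinearMap.sub_apply, TensorProduct.tmul_sub, map_sub]
        congr 1
        rw [LinearMap.comp_apply, TensorProduct.map_tmul]
        generalize Coalgebra.comul (R := k) a = d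
        induction d using TensorProduct.induction_on with
        | zero => simp
        | add p q hp hq => simp only [TensorProduct.add_tmul, TensorProduct.tmul_add, map_add, hp, hq]
        | tmul p q =>
          simp only [G, TensorProduct.assoc_symm_tmul, TensorProduct.lift.tmul, LinearMap.mk₂_apply,
            Algebra.TensorProduct.tmul_mul_tmul, one_mul]
          generalize ρ v = w
          induction w using TensorProduct.induction_on with
          | zero => simp
          | add u w hu hw => simp only [TensorProduct.tmul_add, map_add, hu, hw]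
          | tmul u' q' => simp [twist_tmul]

include hcan in
/-- **descent for the Hopf modules `R ⊗ V`** -/
theorem mu_bijective [Module.Flat B R] :
    Function.Bijective (TensorProduct.lift
      (LinearMap.mk₂ B (fun (x : R) (n : invB hB V) => x • (n : R ⊗[k] V))
        (fun x y n => add_smul _ _ _) (fun b x n => smul_assoc b x (n : R ⊗[k] V))
        (fun x n n' => by simp [smul_add]) (fun b x n => by
          rw [Submodule.coe_smul, smul_comm])) : R ⊗[B] invB hB V →ₗ[B] R ⊗[k] V) := by
  set μ := (TensorProduct.lift
      (LinearMap.mk₂ B (fun (x : R) (n : invB hB V) => x • (n : R ⊗[k] V))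
        (fun x y n => add_smul _ _ _) (fun b x n => smul_assoc b x (n : R ⊗[k] V))
        (fun x n n' => by simp [smul_add]) (fun b x n => by
          rw [Submodule.coe_smul, smul_comm])) : R ⊗[B] invB hB V →ₗ[B] R ⊗[k] V) with hμ
  let ι := (invB hB V).subtype.lTensor R
  have heval : ∀ z, evalTwo (A := A) (Θ hB V (ι z)) = μ z := fun z => by
    induction z using TensorProduct.induction_on with
    | zero => simp
    | add u w hu hw => simp only [map_add, hu, hw]
    | tmul x n =>
      change evalTwo (A := A) (Θ hB V (x ⊗ₜ[B] (n : R ⊗[k] V))) = x • (n : R ⊗[k] V)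
      generalize (n : R ⊗[k] V) = w
      induction w using TensorProduct.induction_on with
      | zero => simp
      | add u w hu hw => simp only [TensorProduct.tmul_add, map_add, smul_add, hu, hw]
      | tmul b v =>
        rw [Θ_tmul, evalTwo, LinearMap.rTensor_tmul, TensorProduct.smul_tmul', smul_eq_mul]
        congr 1
        conv_rhs => rw [show b = slice (Coalgebra.counit (R := k) (A := A)) (ρ b) by rw [← op_apply, op_counit]]
        generalize ρ b = d
        induction d using TensorProduct.induction_on with
        | zero => simp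
        | add u w hu hw => simp only [mul_add, map_add, hu, hw]
        | tmul u w => simp [Algebra.TensorProduct.tmul_mul_tmul]
  obtain ⟨P, hP⟩ := exists_retraction (k := k) (A := A) (V := V)
  have hdet : ∀ y, (defectReg (k := k) (A := A) (V := V)).lTensor R (TensorProduct.assoc k R A V y) = 0 →
      y = coinvR (A := A) (evalTwo y) := fun y hy => by
    have h2 : (P.lTensor R) ((defectReg (k := k) (A := A) (V := V)).lTensor R (TensorProduct.assoc k R A V y)) =
        TensorProduct.assoc k R A V y - TensorProduct.assoc k R A V (coinvR (A := A) (evalTwo y)) := by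
      clear hy
      induction y using TensorProduct.induction_on with
      | zero => simp
      | add u w hu hw => simp only [map_add, hu, hw]; abel
      | tmul p v =>
        induction p using TensorProduct.induction_on with
        | zero => simp
        | add u w hu hw => simp only [TensorProduct.add_tmul, map_add, hu, hw]; abel
        | tmul r h =>
          simp only [TensorProduct.assoc_tmul, LinearMap.lTensor_tmul, hP, TensorProduct.tmul_sub, evalTwo,
            LinearMap.rTensor_tmul, slice_tmul, coinvR, LinearMap.comp_apply, LinearEquiv.coe_coe,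
            LinearEquiv.apply_symm_apply, TensorProduct.lid_tmul, map_smul, TensorProduct.smul_tmul]
    rw [hy, map_zero] at h2
    exact (TensorProduct.assoc k R A V).injective (sub_eq_zero.1 h2.symm)
  constructor
  · refine (injective_iff_map_eq_zero μ).2 fun z hz => ?_
    apply Module.Flat.lTensor_preserves_injective_linearMap (invB hB V).subtype Subtype.val_injective
    rw [map_zero]
    refine (Θ_bijective hB hcan V).1 ?_
    have h0 : (defectB hB).lTensor R (ι z) = 0 := by
      rw [← LinearMap.lTensor_comp_apply,
        show defectB hB ∘ₗ (invB hB V).subtype = 0 from LinearMap.ext fun n => n.2, LinearMap.lTensor_zero]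
      rfl
    have h1 := (Θ_natural hB (ι z)).symm
    rw [h0, map_zero, LinearEquiv.map_eq_zero_iff] at h1
    rw [map_zero, hdet _ h1, heval, hz, map_zero]
  · intro y
    obtain ⟨w, hw⟩ := (Θ_bijective hB hcan V).2 (coinvR (A := A) y)
    have hw0 : (defectB hB).lTensor R w = 0 := by
      refine (Θ_bijective hB hcan (V ⊗[k] A)).1 ?_
      rw [map_zero, Θ_natural, hw, coinvR, LinearMap.comp_apply, LinearEquiv.coe_coe, LinearEquiv.apply_symm_apply,
        ← LinearMap.lTensor_comp_apply,
        show defectReg (k := k) (A := A) (V := V) ∘ₗ coinv A V = 0 from LinearMap.ext defectReg_coinv,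
        LinearMap.lTensor_zero, LinearMap.zero_apply, map_zero]
    obtain ⟨z, hz⟩ := ((Module.Flat.lTensor_exact R (N := invB hB V) (f := (invB hB V).subtype) (show Function.Exact (invB hB V).subtype (defectB hB (V := V)) from
      LinearMap.exact_subtype_ker_map (defectB hB (V := V)))) w).1 hw0
    refine ⟨z, ?_⟩
    rw [← heval, show ι z = w from hz, hw]
    clear hw hw0 hz
    induction y using TensorProduct.induction_on with
    | zero => simp
    | add u w hu hw => simp only [map_add, hu, hw]
    | tmul r v =>
      have h3 : ∀ d : A ⊗[k] V, evalTwo (A := A) ((TensorProduct.assoc k R A V).symm (r ⊗ₜ[k] d)) =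
          r ⊗ₜ[k] TensorProduct.lid k V ((Coalgebra.counit (R := k) (A := A)).rTensor V d) := fun d => by
        induction d using TensorProduct.induction_on with
        | zero => simp
        | add u w hu hw => simp only [TensorProduct.tmul_add, map_add, hu, hw]
        | tmul u w => simp [evalTwo, TensorProduct.smul_tmul]
      rw [coinvR, LinearMap.comp_apply, LinearMap.lTensor_tmul, LinearEquiv.coe_coe, h3]
      congr 1
      conv_rhs => rw [show v = slice (Coalgebra.counit (R := k) (A := A)) (ρ v) by rw [← op_apply, op_counit]]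
      rw [coinv, LinearMap.comp_apply, LinearMap.comp_apply]
      generalize ρ v = d
      induction d using TensorProduct.induction_on with
      | zero => simp
      | add u w hu hw => simp only [map_add, hu, hw]
      | tmul u w => simp

include hcan in
/-- invariant vectors of `R ⊗ V` lift along a surjection onto the trivial line -/
theorem exists_invB_lift [Module.FaithfullyFlat B R] {π : V →ₗ[k] k} (hπs : Function.Surjective π)
    (hπ : LinearMap.rTensor A π ∘ₗ HopfRep.Comod.coact (k := k) (A := A) (V := V) =
      (TensorProduct.mk k k A).flip (1 : A) ∘ₗ π) :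
    ∃ m : R ⊗[k] V, defect (A := A) m = 0 ∧ slice π m = 1 := by
  let : HopfRep.Comod k A k := HopfRep.Comod.trivial k A k
  let g : R ⊗[k] V →ₗ[B] R ⊗[k] k := TensorProduct.AlgebraTensorModule.lTensor B R π
  have hnat : ∀ z : R ⊗[k] V, defect (A := A) (g z) = (π.rTensor A).lTensor R (defect (A := A) z) := fun z => by
    induction z using TensorProduct.induction_on with
    | zero => simp
    | add u w hu hw => simp only [map_add, hu, hw]
    | tmul r v =>
      change defect (A := A) (r ⊗ₜ[k] π v) = _
      rw [defect_tmul, defect_tmul, map_sub, LinearMap.lTensor_tmul, LinearMap.rTensor_tmul,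
        show HopfRep.Comod.coact (k := k) (A := A) (π v) = π.rTensor A (ρ v) from (LinearMap.congr_fun hπ v).symm]
      congr 1
      generalize ρ r = z
      generalize ρ v = w
      induction z using TensorProduct.induction_on with
      | zero => simp
      | add u w hu hw => simp only [TensorProduct.add_tmul, map_add, hu, hw]
      | tmul u p =>
        induction w using TensorProduct.induction_on with
        | zero => simp
        | add u w hu hw => simp only [TensorProduct.tmul_add, map_add, hu, hw]
        | tmul x q => simp [twist_tmul]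
  let gN : invB hB V →ₗ[B] invB hB k := g.restrict fun z hz => by
    rw [mem_invB] at hz ⊢
    rw [hnat, hz, map_zero]
  have hμV := mu_bijective hB (V := V) hcan
  have hμk := mu_bijective hB (V := k) hcan
  have hsur : Function.Surjective gN := by
    refine (Module.FaithfullyFlat.lTensor_surjective_iff_surjective B R (N := invB hB V) (N' := invB hB k) gN).1 fun z => ?_
    have key : ∀ w : R ⊗[B] invB hB V, TensorProduct.lift
        (LinearMap.mk₂ B (fun (x : R) (n : invB hB k) => x • (n : R ⊗[k] k))
          (fun x y n => add_smul _ _ _) (fun b x n => smul_assoc b x (n : R ⊗[k] k))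
          (fun x n n' => by simp [smul_add]) (fun b x n => by rw [Submodule.coe_smul, smul_comm]))
        (gN.lTensor R w) = g (TensorProduct.lift
        (LinearMap.mk₂ B (fun (x : R) (n : invB hB V) => x • (n : R ⊗[k] V))
          (fun x y n => add_smul _ _ _) (fun b x n => smul_assoc b x (n : R ⊗[k] V))
          (fun x n n' => by simp [smul_add]) (fun b x n => by rw [Submodule.coe_smul, smul_comm])) w) := fun w => by
      induction w using TensorProduct.induction_on with
      | zero => simp
      | add u w hu hw => simp only [map_add, hu, hw]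
      | tmul x n =>
        simp only [LinearMap.lTensor_tmul, TensorProduct.lift.tmul, LinearMap.mk₂_apply]
        change x • g (n : R ⊗[k] V) = g (x • (n : R ⊗[k] V))
        generalize (n : R ⊗[k] V) = y
        induction y using TensorProduct.induction_on with
        | zero => simp
        | add u w hu hw => simp only [smul_add, map_add, hu, hw]
        | tmul u w => simp [g, TensorProduct.smul_tmul']
    obtain ⟨y, hy⟩ := (show Function.Surjective g from LinearMap.lTensor_surjective R hπs) (TensorProduct.lift
        (LinearMap.mk₂ B (fun (x : R) (n : invB hB k) => x • (n : R ⊗[k] k))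
          (fun x y n => add_smul _ _ _) (fun b x n => smul_assoc b x (n : R ⊗[k] k))
          (fun x n n' => by simp [smul_add]) (fun b x n => by rw [Submodule.coe_smul, smul_comm])) z)
    obtain ⟨w, hw⟩ := hμV.2 y
    exact ⟨w, hμk.1 ((key w).trans ((congrArg g hw).trans hy))⟩
  obtain ⟨m, hm⟩ := hsur ⟨(1 : R) ⊗ₜ[k] (1 : k), (mem_invB hB).2 (by
    rw [defect_tmul, show HopfRep.Comod.coact (k := k) (A := A) (V := R) 1 = (1 : R) ⊗ₜ[k] (1 : A) from
      GLin.IsCoactAlg.coact_one.trans Algebra.TensorProduct.one_def,
      show HopfRep.Comod.coact (k := k) (A := A) (1 : k) = (1 : k) ⊗ₜ[k] (1 : A) from rfl, twist_tmul, mul_one,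
      sub_self])⟩
  refine ⟨m, (mem_invB hB).1 m.2, ?_⟩
  have h : ∀ z : R ⊗[k] V, slice π z = TensorProduct.rid k R (g z) := fun z => rfl
  rw [h, show g (m : R ⊗[k] V) = (1 : R) ⊗ₜ[k] (1 : k) from congrArg Subtype.val hm, TensorProduct.rid_tmul,
    one_smul]

end Descent

end Groth.Misc1.LRQuot
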