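import Groth.Agent.Misc1.LRQuot.Galois
import Groth.Agent.Hopf.Push
import Groth.Agent.Agf.Quot
import Groth.Agent.Ega4Algebra1.RegularDescent
import Groth.Prelude.Def_CoactBr
import Groth.Prelude.Def_RedSub
import Mathlib.AlgebraicGeometry.Morphisms.Flat

/-!
# Quotients of affine groups by closed subgroups
-/

set_option autoImplicit false
set_option linter.unusedSectionVars false

universe u

open TensorProduct CategoryTheory Limits MonoidalCategory CartesianMonoidalCategory MonObj AlgebraicGeometry

noncomputable section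

namespace Groth.Misc1.LRQuot

open Groth.ComodLib

variable {k : Type u} [Field k] {G H : Type u} [CommRing G] [HopfAlgebra k G] [CommRing H] [HopfAlgebra k H]
  (ψ : G →ₐc[k] H)

/-- a group seen with the translation by a subgroup -/
@[reducible] def comodSub : HopfRep.Comod k H G :=
  pushComod (ψ : G →ₗc[k] H) (HopfRep.Comod.regular k G)

/-- translation as an algebra map -/
def coactSub : G →ₐ[k] G ⊗[k] H :=
  (Algebra.TensorProduct.map (AlgHom.id k G) (ψ : G →ₐ[k] H)).comp (Bialgebra.comulAlgHom k G)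

theorem coactSub_apply (g : G) : (comodSub ψ).coact g = coactSub ψ g := by
  change (ψ : G →ₗc[k] H).toLinearMap.lTensor G (Coalgebra.comul (R := k) g) = _
  change _ = Algebra.TensorProduct.map (AlgHom.id k G) (ψ : G →ₐ[k] H) (Coalgebra.comul (R := k) g)
  generalize Coalgebra.comul (R := k) g = z
  induction z using TensorProduct.induction_on with
  | zero => simp
  | tmul x y => rfl
  | add x y hx hy => simp only [map_add, hx, hy]

theorem isCoactAlg_comodSub : @GLin.IsCoactAlg k _ H _ _ G _ _ (comodSub ψ) :=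
  letI := comodSub ψ
  { coact_one := by rw [coactSub_apply ψ, map_one]
    coact_mul := fun x y => by rw [coactSub_apply ψ, coactSub_apply ψ, coactSub_apply ψ, map_mul] }

theorem exists_pairs (hψ : Function.Surjective ψ) (h : H) :
    letI := comodSub ψ
    ∃ s : Finset (G × G), ∑ p ∈ s, (p.1 ⊗ₜ[k] (1 : H)) * HopfRep.Comod.coact (k := k) (A := H) p.2 =
      (1 : G) ⊗ₜ[k] h := by
  let := comodSub ψ
  obtain ⟨g, rfl⟩ := hψ h
  let S := HopfAlgebraStruct.antipode (R := k) (A := G)
  obtain ⟨s, hs⟩ := TensorProduct.exists_finset (S.rTensor G (Coalgebra.comul (R := k) g))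
  refine ⟨s, ?_⟩
  let C : G ⊗[k] G →ₗ[k] G ⊗[k] H := LinearMap.mul' k _ ∘ₗ TensorProduct.map
    (Algebra.TensorProduct.includeLeft : G →ₐ[k] G ⊗[k] H).toLinearMap (coactSub ψ).toLinearMap
  have hC : ∀ a b, C (a ⊗ₜ b) = (a ⊗ₜ[k] (1 : H)) * coactSub ψ b := fun a b => rfl
  refine Eq.trans (?_ : _ = C (S.rTensor G (Coalgebra.comul (R := k) g))) ?_
  · rw [hs, map_sum]
    exact Finset.sum_congr rfl fun p _ => by rw [hC, coactSub_apply]
  · let K : G ⊗[k] (G ⊗[k] G) →ₗ[k] G ⊗[k] H :=
      TensorProduct.map (LinearMap.mul' k G ∘ₗ S.rTensor G) (ψ : G →ₐ[k] H).toLinearMap ∘ₗ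
        (TensorProduct.assoc k G G G).symm.toLinearMap
    have h1 : C (S.rTensor G (Coalgebra.comul (R := k) g)) =
        K (LinearMap.lTensor G (Coalgebra.comul (R := k)) (Coalgebra.comul (R := k) g)) := by
      generalize Coalgebra.comul (R := k) g = z
      induction z using TensorProduct.induction_on with
      | zero => simp
      | add x y hx hy => simp only [map_add, hx, hy]
      | tmul x y =>
        rw [LinearMap.rTensor_tmul, hC, LinearMap.lTensor_tmul, coactSub, AlgHom.comp_apply,
          Bialgebra.comulAlgHom_apply]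
        generalize Coalgebra.comul (R := k) y = w
        induction w using TensorProduct.induction_on with
        | zero => simp
        | add u v hu hv => simp only [map_add, mul_add, TensorProduct.tmul_add, hu, hv]
        | tmul u v => simp [K, Algebra.TensorProduct.tmul_mul_tmul]
    rw [h1, ← Coalgebra.coassoc_apply]
    conv_rhs => rw [show g = TensorProduct.lid k G ((Coalgebra.counit (R := k) (A := G)).rTensor G
      (Coalgebra.comul (R := k) g)) by rw [Coalgebra.rTensor_counit_comul, TensorProduct.lid_tmul, one_smul]]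
    generalize Coalgebra.comul (R := k) g = z
    induction z using TensorProduct.induction_on with
    | zero => simp
    | add x y hx hy => simp only [map_add, TensorProduct.tmul_add, hx, hy]
    | tmul x y =>
      simp only [LinearMap.rTensor_tmul, K, LinearMap.comp_apply, LinearEquiv.coe_coe, LinearEquiv.symm_apply_apply,
        TensorProduct.map_tmul, AlgHom.toLinearMap_apply, TensorProduct.lid_tmul]
      rw [HopfAlgebra.mul_antipode_rTensor_comul_apply, Algebra.algebraMap_eq_smul_one, map_smul,
        TensorProduct.smul_tmul]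
      rfl

/-- invariant vectors under the subgroup come from the integral of the group -/
theorem fixedCrit_of_galois {B : Type u} [CommRing B] [Algebra k B] [Algebra B G] [IsScalarTower k B G]
    [Module.FaithfullyFlat B G] {β : G →ₗ[k] k}
    (hβ : @Hoch.IsComodHom k _ G _ _ _ G _ _ (HopfRep.Comod.regular k G) k _ _ (HopfRep.Comod.trivial k G k) β)
    (hβ1 : β 1 = 1)
    (hB : ∀ b : B, (comodSub ψ).coact (algebraMap B G b) = algebraMap B G b ⊗ₜ[k] (1 : H))
    (hcan : letI := comodSub ψ; letI := isCoactAlg_comodSub ψ; Function.Bijective (can (A := H) hB)) :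
    FixedCrit k H := by
  let := comodSub ψ
  have := isCoactAlg_comodSub ψ
  intro V _ _ _ _ π hπs hπ
  obtain ⟨m, hm0, hm1⟩ := exists_invB_lift (A := H) hB hcan hπs hπ
  let Φ : G ⊗[k] V →ₗ[k] V := (TensorProduct.lid k V).toLinearMap ∘ₗ β.rTensor V
  have hinvβ : ∀ g, β.rTensor H ((comodSub ψ).coact g) = β g ⊗ₜ[k] (1 : H) := fun g => by
    have h : β g ⊗ₜ[k] (1 : G) = β.rTensor G (Coalgebra.comul (R := k) g) := LinearMap.congr_fun hβ g
    change β.rTensor H ((ψ : G →ₗc[k] H).toLinearMap.lTensor G (Coalgebra.comul (R := k) g)) = _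
    rw [← LinearMap.comp_apply, LinearMap.rTensor_comp_lTensor, ← LinearMap.lTensor_comp_rTensor,
      LinearMap.comp_apply, ← h, LinearMap.lTensor_tmul]
    exact congrArg _ (map_one ψ)
  refine ⟨Φ m, ?_, ?_⟩
  · let Φ' : G ⊗[k] (V ⊗[k] H) →ₗ[k] V ⊗[k] H := (TensorProduct.lid k _).toLinearMap ∘ₗ β.rTensor _
    have key : ∀ z : G ⊗[k] V, Φ' (defect (A := H) z) =
        HopfRep.Comod.coact (k := k) (A := H) (Φ z) - Φ z ⊗ₜ[k] (1 : H) := fun z => by
      induction z using TensorProduct.induction_on with
      | zero => simp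
      | add x y hx hy => simp only [map_add, TensorProduct.add_tmul, hx, hy]; abel
      | tmul g v =>
        rw [defect_tmul, map_sub]
        have h2 : ∀ (z : G ⊗[k] H) (w : V ⊗[k] H), Φ' (twist (z ⊗ₜ[k] w)) =
            (LinearMap.mulLeft k (TensorProduct.lid k H (β.rTensor H z))).lTensor V w := fun z w => by
          induction z using TensorProduct.induction_on with
          | zero => simp
          | add x y hx hy =>
            simp only [TensorProduct.add_tmul, map_add, hx, hy]
            rw [show LinearMap.mulLeft k (TensorProduct.lid k H (β.rTensor H x) + TensorProduct.lid k H (β.rTensor H y)) =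
              LinearMap.mulLeft k (TensorProduct.lid k H (β.rTensor H x)) +
                LinearMap.mulLeft k (TensorProduct.lid k H (β.rTensor H y)) from
              LinearMap.ext fun a => by simp [add_mul], LinearMap.lTensor_add, LinearMap.add_apply]
          | tmul x p =>
            induction w using TensorProduct.induction_on with
            | zero => simp
            | add u w hu hw => simp only [TensorProduct.tmul_add, map_add, hu, hw]
            | tmul u q => simp [Φ', twist_tmul, TensorProduct.smul_tmul']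
        rw [h2, show HopfRep.Comod.coact (k := k) (A := H) (V := G) g = (comodSub ψ).coact g from rfl, hinvβ]
        simp only [Φ, Φ', LinearMap.comp_apply, LinearEquiv.coe_coe, LinearMap.rTensor_tmul, TensorProduct.lid_tmul,
          map_smul, TensorProduct.smul_tmul']
        congr 1
        generalize HopfRep.Comod.coact (k := k) (A := H) v = w
        induction w using TensorProduct.induction_on with
        | zero => simp
        | add u w hu hw => simp only [map_add, smul_add, hu, hw]
        | tmul u q => simp [TensorProduct.smul_tmul']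
    have h3 := key m
    rw [hm0, map_zero] at h3
    exact sub_eq_zero.1 h3.symm
  · have h4 : ∀ z : G ⊗[k] V, π (Φ z) = β (slice π z) := fun z => by
      induction z using TensorProduct.induction_on with
      | zero => simp
      | add x y hx hy => simp only [map_add, hx, hy]
      | tmul x y => simp [Φ, mul_comm]
    rw [h4, hm1, hβ1]
    exact one_ne_zero

section Scheme

variable {B : Type u} [CommRing B] [Algebra k B] [Algebra B G] [IsScalarTower k B G]

/-- the two projections of the torsor -/
theorem exists_iso_pair :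
    ∃ e : CoactBr.sp k (G ⊗[k] H) ≅ CoactBr.sp k G ⊗ CoactBr.sp k H,
      e.hom ≫ fst _ _ = CoactBr.pt (Algebra.TensorProduct.includeLeft : G →ₐ[k] G ⊗[k] H) ∧
      e.hom ≫ (CoactBr.sp k G ◁ CoactBr.pt (ψ : G →ₐ[k] H)) ≫ μ[CoactBr.sp k G] = CoactBr.pt (coactSub ψ) := by
  letI : (algSpec (CommRingCat.of k)).Braided := braidedAlgSpec
  let m : CoactBr.sp k G ⊗ CoactBr.sp k H ≅ CoactBr.sp k (G ⊗[k] H) :=
    Functor.Monoidal.μIso (algSpec (CommRingCat.of k)) (Opposite.op (.of k G)) (Opposite.op (.of k H))
  let p := lift (CoactBr.pt (R := k) (Algebra.TensorProduct.includeLeft : G →ₐ[k] G ⊗[k] H))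
    (CoactBr.pt (R := k) (Algebra.TensorProduct.includeRight : H →ₐ[k] G ⊗[k] H))
  have h1 : p ≫ m.hom = 𝟙 _ := by
    refine (CoactBr.lift_pt_pt _ _).trans ?_
    rw [← CoactBr.pt_id]
    congr 1
    exact Algebra.TensorProduct.ext' fun a b => by simp [Algebra.TensorProduct.tmul_mul_tmul]
  have hp : m.inv = p := by rw [← cancel_mono m.hom, m.inv_hom_id, h1]
  refine ⟨m.symm, ?_, ?_⟩
  · rw [Iso.symm_hom, hp, lift_fst]
  · rw [Iso.symm_hom, hp, lift_whiskerLeft_assoc, ← Hom.mul_def, ← CoactBr.pt_comp, CoactBr.pt_mul_pt]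
    congr 1
    refine AlgHom.ext fun g => ?_
    change Algebra.TensorProduct.lift (Algebra.TensorProduct.includeLeft : G →ₐ[k] G ⊗[k] H)
        ((Algebra.TensorProduct.includeRight : H →ₐ[k] G ⊗[k] H).comp (ψ : G →ₐ[k] H))
        (fun _ _ => Commute.all _ _) (Coalgebra.comul (R := k) g) =
      Algebra.TensorProduct.map (AlgHom.id k G) (ψ : G →ₐ[k] H) (Coalgebra.comul (R := k) g)
    generalize Coalgebra.comul (R := k) g = z
    induction z using TensorProduct.induction_on with
    | zero => simp
    | tmul x y => simp [Algebra.TensorProduct.tmul_mul_tmul]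
    | add x y hx hy => simp only [map_add, hx, hy]

/-- the torsor square of affine schemes is cartesian exactly when the Galois map is bijective -/
theorem isPullback_iff_can (hB : ∀ b : B, (comodSub ψ).coact (algebraMap B G b) = algebraMap B G b ⊗ₜ[k] (1 : H))
    (q : CoactBr.sp k G ⟶ CoactBr.sp k B) (hq : q.left = Spec.map (CommRingCat.ofHom (algebraMap B G))) :
    IsPullback (fst _ _) ((CoactBr.sp k G ◁ CoactBr.pt (ψ : G →ₐ[k] H)) ≫ μ[CoactBr.sp k G]) q q ↔
      letI := comodSub ψ; letI := isCoactAlg_comodSub ψ; Function.Bijective (can (A := H) hB) := by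
  let := comodSub ψ
  have := isCoactAlg_comodSub ψ
  obtain ⟨e, he1, he2⟩ := exists_iso_pair ψ
  let c := CommRingCat.ofHom (can (A := H) hB).toRingHom
  let f := CommRingCat.ofHom (algebraMap B G)
  have hfst : Spec.map c ≫ Spec.map (CommRingCat.ofHom (Algebra.TensorProduct.includeLeftRingHom : G →+* G ⊗[B] G)) =
      (e.hom ≫ fst _ _).left := by
    rw [he1, CoactBr.pt_left, ← Spec.map_comp]
    congr 1
    refine CommRingCat.hom_ext (RingHom.ext fun g => ?_)
    change can (A := H) hB (g ⊗ₜ[B] (1 : G)) = g ⊗ₜ[k] (1 : H)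
    rw [can_tmul, coactSub_apply, map_one, _root_.mul_one]
  have hsnd : Spec.map c ≫ Spec.map (CommRingCat.ofHom
      (Algebra.TensorProduct.includeRight : G →ₐ[B] G ⊗[B] G).toRingHom) =
      (e.hom ≫ (CoactBr.sp k G ◁ CoactBr.pt (ψ : G →ₐ[k] H)) ≫ μ[CoactBr.sp k G]).left := by
    rw [he2, CoactBr.pt_left, ← Spec.map_comp]
    congr 1
    refine CommRingCat.hom_ext (RingHom.ext fun g => ?_)
    change can (A := H) hB ((1 : G) ⊗ₜ[B] g) = coactSub ψ g
    rw [can_tmul, coactSub_apply, ← Algebra.TensorProduct.one_def, _root_.one_mul]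
  have hT : IsPullback (Spec.map (CommRingCat.ofHom (Algebra.TensorProduct.includeLeftRingHom : G →+* G ⊗[B] G)))
      (Spec.map (CommRingCat.ofHom (Algebra.TensorProduct.includeRight : G →ₐ[B] G ⊗[B] G).toRingHom))
      (Spec.map f) (Spec.map f) :=
    isPullback_SpecMap_of_isPushout _ _ _ _ (CommRingCat.isPushout_tensorProduct B G G)
  let E : (CoactBr.sp k G ⊗ CoactBr.sp k H).left ⟶ Spec (CommRingCat.of (G ⊗[k] H)) := e.inv.left
  have : IsIso E := inferInstanceAs (IsIso ((Over.forget _).map e.inv))
  let a := E ≫ Spec.map c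
  let p1 : (CoactBr.sp k G ⊗ CoactBr.sp k H).left ⟶ Spec (CommRingCat.of G) :=
    (fst (CoactBr.sp k G) (CoactBr.sp k H)).left
  let p2 : (CoactBr.sp k G ⊗ CoactBr.sp k H).left ⟶ Spec (CommRingCat.of G) :=
    ((CoactBr.sp k G ◁ CoactBr.pt (ψ : G →ₐ[k] H)) ≫ μ[CoactBr.sp k G]).left
  have hiso : IsIso a ↔ Function.Bijective (can (A := H) hB) := by
    rw [isIso_comp_left_iff, isIso_SpecMap_iff]
    rfl
  have hw1 : a ≫ Spec.map (CommRingCat.ofHom (Algebra.TensorProduct.includeLeftRingHom : G →+* G ⊗[B] G)) = p1 :=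
    (Category.assoc _ _ _).trans ((congrArg (E ≫ ·) hfst).trans
      (congrArg (fun m => Over.Hom.left m) (e.inv_hom_id_assoc (fst (CoactBr.sp k G) (CoactBr.sp k H)))))
  have hw2 : a ≫ Spec.map (CommRingCat.ofHom
      (Algebra.TensorProduct.includeRight : G →ₐ[B] G ⊗[B] G).toRingHom) = p2 :=
    (Category.assoc _ _ _).trans ((congrArg (E ≫ ·) hsnd).trans
      (congrArg (fun m => Over.Hom.left m)
        (e.inv_hom_id_assoc ((CoactBr.sp k G ◁ CoactBr.pt (ψ : G →ₐ[k] H)) ≫ μ[CoactBr.sp k G]))))
  constructor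
  · intro h
    have h' : IsPullback p1 p2 (Spec.map f) (Spec.map f) := by
      have := h.map (Over.forget _)
      simp only [Over.forget_map] at this
      rw [hq] at this
      exact this
    refine hiso.1 ?_
    rw [show a = (h'.isoIsPullback _ _ hT).hom from
      hT.hom_ext (by rw [hw1, IsPullback.isoIsPullback_hom_fst]) (by rw [hw2, IsPullback.isoIsPullback_hom_snd])]
    infer_instance
  · intro h
    have : IsIso a := hiso.2 h
    have h' : IsPullback p1 p2 (Spec.map f) (Spec.map f) :=
      hT.of_iso (asIso a).symm (Iso.refl _) (Iso.refl _) (Iso.refl _)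
        (by simp [← hw1]) (by simp [← hw2]) (by simp) (by simp)
    refine IsPullback.of_map (Over.forget _) (Over.OverMorphism.ext ?_) ?_
    · rw [Over.comp_left, Over.comp_left, hq]
      exact h'.w
    · simp only [Over.forget_map]
      rw [hq]
      exact h'

end Scheme

/-- quotients by the same subgroup are isomorphic -/
theorem exists_iso_of_isQuotient {X Y Q Q' : Over (Spec (CommRingCat.of k))} [GrpObj X] [GrpObj Y] {i : Y ⟶ X}
    {q : X ⟶ Q} {q' : X ⟶ Q'} (h : RedSub.IsQuotient i q) (h' : RedSub.IsQuotient i q') : Nonempty (Q ≅ Q') := by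
  obtain ⟨h1, h2, h3, h4⟩ := h
  obtain ⟨h1', h2', h3', h4'⟩ := h'
  obtain ⟨d, hd⟩ := Groth.Agf.exists_desc_of_fppf q _ _ h4 q' h4'.w
  obtain ⟨d', hd'⟩ := Groth.Agf.exists_desc_of_fppf q' _ _ h4' q h4.w
  have := Groth.Agf.epi_of_fppf q
  have := Groth.Agf.epi_of_fppf q'
  exact ⟨⟨d, d', by rw [← cancel_epi q, ← Category.assoc, hd, hd', Category.comp_id],
    by rw [← cancel_epi q', ← Category.assoc, hd', hd, Category.comp_id]⟩⟩

section Results

variable [Algebra.FiniteType k G]

/-- **the quotient by a linearly reductive subgroup is affine** -/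
theorem isAffine_of_isLinearlyReductive (hH : HopfRep.IsLinearlyReductive k H) (hψ : Function.Surjective ψ)
    [IsMonHom (CoactBr.pt (ψ : G →ₐ[k] H))]
    {Q : Over (Spec (CommRingCat.of k))} (q : CoactBr.sp k G ⟶ Q)
    (hq : RedSub.IsQuotient (CoactBr.pt (ψ : G →ₐ[k] H)) q) : IsAffine Q.left := by
  let := comodSub ψ
  have := isCoactAlg_comodSub ψ
  obtain ⟨t, ht, ht1⟩ := exists_integral_of_crit (fixedCrit_of_isLinearlyReductive hH)
  let B := GLin.invariants k H G
  have hB : ∀ b : B, (comodSub ψ).coact (algebraMap B G b) = algebraMap B G b ⊗ₜ[k] (1 : H) := fun b => b.2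
  have hinj : Function.Injective (algebraMap B G) := Subtype.val_injective
  have hinv : ∀ r ∈ HopfRep.fixedPts k H G, r ∈ (algebraMap B G).range := fun r hr => ⟨⟨r, hr⟩, rfl⟩
  have hsurj := exists_pairs ψ hψ
  have := faithfullyFlat (A := H) hB hinj hinv ht ht1 hsurj
  have hcan := can_bijective (A := H) hB hinj hinv ht ht1 hsurj
  have : IsNoetherianRing G := Algebra.FiniteType.isNoetherianRing k G
  have : IsNoetherianRing B := Groth.Ega4Algebra1.isNoetherianRing_of_faithfullyFlat B G
  have : Algebra.FiniteType B G := Algebra.FiniteType.of_restrictScalars_finiteType k B G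
  have hfp : Algebra.FinitePresentation B G := Algebra.FinitePresentation.of_finiteType.1 inferInstance
  let q' : CoactBr.sp k G ⟶ CoactBr.sp k B := CoactBr.pt B.val
  have hq'l : q'.left = Spec.map (CommRingCat.ofHom (algebraMap B G)) := rfl
  have hquot : RedSub.IsQuotient (CoactBr.pt (ψ : G →ₐ[k] H)) q' := by
    refine ⟨?_, ?_, ?_, (isPullback_iff_can ψ hB q' hq'l).2 hcan⟩
    · rw [hq'l]
      exact ⟨PrimeSpectrum.comap_surjective_of_faithfullyFlat (A := B) (B := G)⟩
    · rw [hq'l]
      exact (HasRingHomProperty.Spec_iff (P := @Flat) (φ := CommRingCat.ofHom (algebraMap B G))).2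
        (RingHom.flat_algebraMap_iff.2 inferInstance)
    · rw [hq'l]
      exact (HasRingHomProperty.Spec_iff (P := @LocallyOfFinitePresentation)
        (φ := CommRingCat.ofHom (algebraMap B G))).2 (RingHom.finitePresentation_algebraMap.2 hfp)
  obtain ⟨e⟩ := exists_iso_of_isQuotient hquot hq
  have : IsIso e.inv.left := ((Over.forget _).mapIso e).isIso_inv
  have : IsAffine (CoactBr.sp k B).left := inferInstanceAs (IsAffine (Spec _))
  exact IsAffine.of_isIso e.inv.left

/-- **subgroups with affine quotient in a linearly reductive group are linearly reductive** -/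
theorem isLinearlyReductive_of_isAffine (hG : HopfRep.IsLinearlyReductive k G)
    [IsMonHom (CoactBr.pt (ψ : G →ₐ[k] H))]
    {Q : Over (Spec (CommRingCat.of k))} (q : CoactBr.sp k G ⟶ Q)
    (hq : RedSub.IsQuotient (CoactBr.pt (ψ : G →ₐ[k] H)) q) [IsAffine Q.left] :
    HopfRep.IsLinearlyReductive k H := by
  let := comodSub ψ
  have := isCoactAlg_comodSub ψ
  obtain ⟨β, hβ, hβ1⟩ := exists_integral_of_crit (fixedCrit_of_isLinearlyReductive hG)
  obtain ⟨hsurjq, hflat, -, hpb⟩ := hq
  let B : Type u := Γ(Q.left, ⊤)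
  let ek : CommRingCat.of k ⟶ Γ(Q.left, ⊤) := Spec.preimage (Q.left.isoSpec.inv ≫ Q.hom)
  letI : Algebra k B := ek.hom.toAlgebra
  let fB : Γ(Q.left, ⊤) ⟶ CommRingCat.of G := Spec.preimage (q.left ≫ Q.left.isoSpec.hom)
  letI : Algebra B G := fB.hom.toAlgebra
  have hfq : Spec.map fB = q.left ≫ Q.left.isoSpec.hom := Spec.map_preimage _
  have hek : Spec.map ek = Q.left.isoSpec.inv ≫ Q.hom := Spec.map_preimage _
  have hcomp : ek ≫ fB = CommRingCat.ofHom (algebraMap k G) := Spec.map_injective (by
    rw [Spec.map_comp, hfq, hek]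
    exact ((Category.assoc _ _ _).trans (congrArg (q.left ≫ ·) (Iso.hom_inv_id_assoc _ _))).trans (Over.w q))
  have : IsScalarTower k B G := IsScalarTower.of_algebraMap_eq' (congrArg CommRingCat.Hom.hom hcomp).symm
  let Q' := CoactBr.sp k B
  let eQ : Q ≅ Q' := Over.isoMk Q.left.isoSpec (by
    change Q.left.isoSpec.hom ≫ Spec.map (CommRingCat.ofHom (algebraMap k B)) = Q.hom
    rw [show CommRingCat.ofHom (algebraMap k B) = ek from rfl, hek, Iso.hom_inv_id_assoc])
  let q' : CoactBr.sp k G ⟶ Q' := q ≫ eQ.hom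
  have hq'l : q'.left = Spec.map (CommRingCat.ofHom (algebraMap B G)) := hfq.symm
  have hpb' : IsPullback (fst (CoactBr.sp k G) (CoactBr.sp k H))
      ((CoactBr.sp k G ◁ CoactBr.pt (ψ : G →ₐ[k] H)) ≫ μ[CoactBr.sp k G]) q' q' :=
    hpb.of_iso (Iso.refl _) (Iso.refl _) (Iso.refl _) eQ (by simp) (by simp) (by simp [q']) (by simp [q'])
  obtain ⟨e, he1, he2⟩ := exists_iso_pair ψ
  have hB : ∀ b : B, (comodSub ψ).coact (algebraMap B G b) = algebraMap B G b ⊗ₜ[k] (1 : H) := fun b => by
    have h0 : CoactBr.pt (Algebra.TensorProduct.includeLeft : G →ₐ[k] G ⊗[k] H) ≫ q' =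
        CoactBr.pt (coactSub ψ) ≫ q' := by
      rw [← he1, ← he2]
      exact (Category.assoc _ _ _).trans ((congrArg (e.hom ≫ ·) hpb'.w).trans (Category.assoc _ _ _).symm)
    have h : Spec.map (CommRingCat.ofHom (Algebra.TensorProduct.includeLeft : G →ₐ[k] G ⊗[k] H).toRingHom) ≫
        Spec.map fB = Spec.map (CommRingCat.ofHom (coactSub ψ).toRingHom) ≫ Spec.map fB := by
      rw [hfq]
      exact congrArg (fun m => Over.Hom.left m) h0
    rw [coactSub_apply]
    have h' := congrArg (fun m : CommRingCat.of B ⟶ CommRingCat.of (G ⊗[k] H) => m.hom b)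
      (Spec.map_injective (((Spec.map_comp _ _).trans h).trans (Spec.map_comp _ _).symm))
    exact h'.symm
  have : Module.Flat B G := by
    have : Flat (Spec.map fB) := by rw [hfq]; exact MorphismProperty.comp_mem _ _ _ hflat inferInstance
    exact RingHom.flat_algebraMap_iff.1 ((HasRingHomProperty.Spec_iff (P := @Flat)).1 this)
  have : Module.FaithfullyFlat B G := Module.FaithfullyFlat.of_comap_surjective fun P => by
    have : Surjective (Spec.map fB) := by rw [hfq]; exact ⟨fun x => by
      obtain ⟨y, rfl⟩ := Scheme.Hom.surjective Q.left.isoSpec.hom x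
      obtain ⟨z, rfl⟩ := hsurjq.surj y
      exact ⟨z, rfl⟩⟩
    exact (Spec.map fB).surjective P
  exact isLinearlyReductive_iff_crit.2 (fixedCrit_of_galois ψ hβ hβ1 hB ((isPullback_iff_can ψ hB q' hq'l).1 hpb'))

end Results

end Groth.Misc1.LRQuot
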